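import Cfsg.Agent.H540.ClassNum

/-!
# Project KGL, task T6: counting commuting pairs in cosets

For a subgroup `B` of `G` and `x : G`, `P B x` is the number of pairs `(b, y)` with `b ∈ B`, `y ∈ x B`, `b y = y b`.
If `B` is normal it is `|B|` times the number of `B`-orbits on the coset `x B`.

* `P_le_map` : `P B x ≤ c |D| P (f B) (f x)`, where `D = B ∩ ker f`, if `P D y ≤ c |D|` for all `y ∈ x B`;
* `P_le_kc` : `P N z ≤ k(N) |N|`;
* `P_le_cent` : `P B x ≤ q c |B|` if `|C_B(z)| ≤ q |C_D(z)|` and `P D z ≤ c |D|` for all `z ∈ x B`;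
* `kc_le_sum` : `k(G) ≤ ∑ c, n c` if `P (ker φ) (x c) ≤ n c |ker φ|` for representatives `x c` of the classes of the
  range of `φ`.
-/

set_option autoImplicit false

namespace Cfsg.Agent.H388.KGL

open Subgroup

section Fiber

theorem card_le_mul_of_fiber {α β : Type*} [Finite α] [Finite β] (F : α → β) (c : ℕ)
    (h : ∀ b, Nat.card {a // F a = b} ≤ c) : Nat.card α ≤ c * Nat.card β := by
  classical
  have := Fintype.ofFinite α
  have := Fintype.ofFinite β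
  rw [← Nat.card_congr (Equiv.sigmaFiberEquiv F), Nat.card_sigma]
  calc ∑ b : β, Nat.card {a // F a = b} ≤ ∑ _b : β, c := Finset.sum_le_sum fun b _ => h b
    _ = c * Nat.card β := by
      rw [Finset.sum_const, Finset.card_univ, smul_eq_mul, mul_comm, Nat.card_eq_fintype_card]

end Fiber

variable {G : Type*} [Group G]

/-- Pairs `(b, y)` with `b ∈ B`, `y ∈ x B` and `b y = y b`. -/
def PS (B : Subgroup G) (x : G) : Set (G × G) := {q | q.1 ∈ B ∧ x⁻¹ * q.2 ∈ B ∧ q.1 * q.2 = q.2 * q.1}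

/-- The number of pairs `(b, y)` with `b ∈ B`, `y ∈ x B` and `b y = y b`. -/
noncomputable def P (B : Subgroup G) (x : G) : ℕ := Nat.card (PS B x)

/-- The order of `C_B(z)`. -/
noncomputable def cB (B : Subgroup G) (z : G) : ℕ := Nat.card {b : G // b ∈ B ∧ b * z = z * b}

theorem P_subgroupOf (K B : Subgroup G) (hB : B ≤ K) (x : G) (hx : x ∈ K) :
    P (B.subgroupOf K) ⟨x, hx⟩ = P B x := by
  unfold P
  refine Nat.card_congr
    { toFun := fun q => ⟨(q.1.1, q.1.2), q.2.1, q.2.2.1, congrArg Subtype.val q.2.2.2⟩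
      invFun := fun q => ⟨(⟨q.1.1, hB q.2.1⟩, ⟨q.1.2, ?_⟩), q.2.1, q.2.2.1, Subtype.ext q.2.2.2⟩
      left_inv := fun q => rfl
      right_inv := fun q => rfl }
  have h := K.mul_mem hx (hB q.2.2.1)
  rwa [mul_inv_cancel_left] at h

theorem P_bot (x : G) : P (⊥ : Subgroup G) x = 1 := by
  unfold P
  rw [Nat.card_eq_one_iff_unique]
  constructor
  · constructor
    rintro ⟨⟨b, y⟩, h1, h2, h3⟩ ⟨⟨b', y'⟩, h1', h2', h3'⟩
    rw [Subgroup.mem_bot] at h1 h2 h1' h2'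
    apply Subtype.ext
    refine Prod.ext (h1.trans h1'.symm) ?_
    change y = y'
    exact mul_left_cancel (h2.trans h2'.symm)
  · exact ⟨⟨(1, x), (Subgroup.mem_bot).2 rfl, by simp, by simp⟩⟩

theorem P_eq_sum [Finite G] (B : Subgroup G) (x : G) [Fintype {z : G // x⁻¹ * z ∈ B}] :
    P B x = ∑ z : {z : G // x⁻¹ * z ∈ B}, cB B z := by
  unfold P cB
  rw [← Nat.card_sigma]
  exact Nat.card_congr
    { toFun := fun q => ⟨⟨q.1.2, q.2.2.1⟩, ⟨q.1.1, q.2.1, q.2.2.2⟩⟩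
      invFun := fun q => ⟨(q.2.1, q.1.1), q.2.2.1, q.1.2, q.2.2.2⟩
      left_inv := fun q => rfl
      right_inv := fun q => rfl }

theorem P_eq_sum' [Finite G] (B : Subgroup G) (x : G) [Fintype B] :
    P B x = ∑ b : B, Nat.card {z : G // x⁻¹ * z ∈ B ∧ (b : G) * z = z * b} := by
  unfold P
  rw [← Nat.card_sigma]
  exact Nat.card_congr
    { toFun := fun q => ⟨⟨q.1.1, q.2.1⟩, ⟨q.1.2, q.2.2.1, q.2.2.2⟩⟩
      invFun := fun q => ⟨(q.1.1, q.2.1), q.1.2, q.2.2.1, q.2.2.2⟩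
      left_inv := fun q => rfl
      right_inv := fun q => rfl }

theorem card_coset (B : Subgroup G) (x : G) : Nat.card {z : G // x⁻¹ * z ∈ B} = Nat.card B :=
  Nat.card_congr
    { toFun := fun z => ⟨x⁻¹ * z.1, z.2⟩
      invFun := fun b => ⟨x * b.1, by rw [inv_mul_cancel_left]; exact b.2⟩
      left_inv := fun z => Subtype.ext (mul_inv_cancel_left _ _)
      right_inv := fun b => Subtype.ext (inv_mul_cancel_left _ _) }

/-- `P B x ≤ c |D| P (f B) (f x)`, where `D = B ∩ ker f`, if `P D y ≤ c |D|` for all `y ∈ x B`. -/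
theorem P_le_map [Finite G] {H : Type*} [Group H] (f : G →* H) (B : Subgroup G) (x : G) (c : ℕ)
    (h : ∀ y, x⁻¹ * y ∈ B → P (B ⊓ f.ker) y ≤ c * Nat.card (B ⊓ f.ker : Subgroup G)) :
    P B x ≤ c * Nat.card (B ⊓ f.ker : Subgroup G) * P (B.map f) (f x) := by
  classical
  have hfin : Finite (PS (B.map f) (f x)) := by
    have h1 : Finite (B.map f) := Finite.Set.finite_image (B : Set G) f
    refine Finite.of_injective (β := B.map f × B.map f)
      (fun q => (⟨q.1.1, q.2.1⟩, ⟨(f x)⁻¹ * q.1.2, q.2.2.1⟩)) ?_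
    intro a b hab
    have h1 := congrArg (fun t : B.map f × B.map f => (t.1 : H)) hab
    have h2 := congrArg (fun t : B.map f × B.map f => (t.2 : H)) hab
    exact Subtype.ext (Prod.ext h1 (mul_left_cancel h2))
  let F : PS B x → PS (B.map f) (f x) := fun q =>
    ⟨(f q.1.1, f q.1.2), ⟨_, q.2.1, rfl⟩, ⟨_, q.2.2.1, by rw [map_mul, map_inv]⟩, by
      have := congrArg f q.2.2.2
      rwa [map_mul, map_mul] at this⟩
  refine card_le_mul_of_fiber F _ fun t => ?_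
  rcases isEmpty_or_nonempty {a // F a = t} with he | ⟨⟨q0, hq0⟩⟩
  · rw [Nat.card_of_isEmpty]; exact Nat.zero_le _
  refine le_trans ?_ (h q0.1.2 q0.2.2.1)
  -- for every `y` choose an element `b` of the fibre
  have hch : ∀ y : G, (∃ b : G, b ∈ B ∧ b * y = y * b ∧ f b = t.1.1) →
      ∃ b : G, b ∈ B ∧ b * y = y * b ∧ f b = t.1.1 := fun _ h => h
  let bc : G → G := fun y => if hy : ∃ b : G, b ∈ B ∧ b * y = y * b ∧ f b = t.1.1 then hy.choose else 1
  have hbc : ∀ y : G, (∃ b : G, b ∈ B ∧ b * y = y * b ∧ f b = t.1.1) →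
      bc y ∈ B ∧ bc y * y = y * bc y ∧ f (bc y) = t.1.1 := by
    intro y hy
    simp only [bc, dif_pos hy]
    exact hy.choose_spec
  have hFt : ∀ q : PS B x, F q = t → f q.1.1 = t.1.1 ∧ f q.1.2 = t.1.2 := by
    intro q hq
    rw [← hq]
    exact ⟨rfl, rfl⟩
  unfold P
  refine Nat.card_le_card_of_injective (fun a : {a // F a = t} =>
    (⟨((bc a.1.1.2)⁻¹ * a.1.1.1, a.1.1.2), ?_, ?_, ?_⟩ : PS (B ⊓ f.ker) q0.1.2)) ?_
  · have h1 := hbc a.1.1.2 ⟨a.1.1.1, a.1.2.1, a.1.2.2.2, (hFt a.1 a.2).1⟩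
    refine ⟨B.mul_mem (B.inv_mem h1.1) a.1.2.1, ?_⟩
    change (bc a.1.1.2)⁻¹ * a.1.1.1 ∈ f.ker
    rw [MonoidHom.mem_ker, map_mul, map_inv, h1.2.2, (hFt a.1 a.2).1, inv_mul_cancel]
  · refine ⟨?_, ?_⟩
    · have h1 := B.mul_mem (B.inv_mem q0.2.2.1) a.1.2.2.1
      change q0.1.2⁻¹ * a.1.1.2 ∈ B
      have e : (x⁻¹ * q0.1.2)⁻¹ * (x⁻¹ * a.1.1.2) = q0.1.2⁻¹ * a.1.1.2 := by group
      rwa [e] at h1
    · change q0.1.2⁻¹ * a.1.1.2 ∈ f.ker
      rw [MonoidHom.mem_ker, map_mul, map_inv, (hFt a.1 a.2).2, (hFt q0 hq0).2, inv_mul_cancel]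
  · have h1 := hbc a.1.1.2 ⟨a.1.1.1, a.1.2.1, a.1.2.2.2, (hFt a.1 a.2).1⟩
    change (bc a.1.1.2)⁻¹ * a.1.1.1 * a.1.1.2 = a.1.1.2 * ((bc a.1.1.2)⁻¹ * a.1.1.1)
    have h2 : (bc a.1.1.2)⁻¹ * a.1.1.2 = a.1.1.2 * (bc a.1.1.2)⁻¹ := by
      rw [inv_mul_eq_iff_eq_mul, ← mul_assoc, h1.2.1, mul_assoc, mul_inv_cancel, mul_one]
    rw [mul_assoc, a.1.2.2.2, ← mul_assoc, h2, mul_assoc]
  · intro a b hab
    have h1 := congrArg (fun t : PS (B ⊓ f.ker) q0.1.2 => t.1.2) hab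
    have h2 := congrArg (fun t : PS (B ⊓ f.ker) q0.1.2 => t.1.1) hab
    have h1' : a.1.1.2 = b.1.1.2 := h1
    have h2' : (bc a.1.1.2)⁻¹ * a.1.1.1 = (bc b.1.1.2)⁻¹ * b.1.1.1 := h2
    rw [h1'] at h2'
    exact Subtype.ext (Subtype.ext (Prod.ext (mul_left_cancel h2') h1'))

/-- `P N z ≤ k(N) |N|`. -/
theorem P_le_kc [Finite G] (N : Subgroup G) (z : G) : P N z ≤ Nat.card (ConjClasses N) * Nat.card N := by
  classical
  have := Fintype.ofFinite G
  have := Fintype.ofFinite N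
  rw [P_eq_sum', Cfsg.Agent.H540.ClassNum.card_conjClasses_subgroup_mul_card]
  refine Finset.sum_le_sum fun n _ => ?_
  unfold Cfsg.Agent.H540.ClassNum.cent
  rcases isEmpty_or_nonempty {y : G // z⁻¹ * y ∈ N ∧ (n : G) * y = y * n} with he | ⟨⟨y0, h0, h1⟩⟩
  · rw [Nat.card_of_isEmpty]; exact Nat.zero_le _
  · refine Nat.card_le_card_of_injective (fun y => ⟨y0⁻¹ * y.1, ?_, ?_⟩) ?_
    · have h2 := N.mul_mem (N.inv_mem h0) y.2.1
      have e : (z⁻¹ * y0)⁻¹ * (z⁻¹ * y.1) = y0⁻¹ * y.1 := by group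
      rwa [e] at h2
    · have c0 : Commute (n : G) y0 := h1
      have c1 : Commute (n : G) y.1 := y.2.2
      exact c0.inv_right.mul_right c1
    · intro a b hab
      have := congrArg Subtype.val hab
      exact Subtype.ext (mul_left_cancel this)

/-- `P B x ≤ q c |B|` if `|C_B(z)| ≤ q |C_D(z)|` and `P D z ≤ c |D|` for all `z ∈ x B`. -/
theorem P_le_cent [Finite G] (B D : Subgroup G) (hD : D ≤ B) (x : G) (q c : ℕ)
    (h1 : ∀ z, x⁻¹ * z ∈ B → cB B z ≤ q * cB D z)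
    (h2 : ∀ z, x⁻¹ * z ∈ B → P D z ≤ c * Nat.card D) : P B x ≤ q * c * Nat.card B := by
  classical
  have := Fintype.ofFinite G
  have := Fintype.ofFinite {z : G // x⁻¹ * z ∈ B}
  have hDpos : 0 < Nat.card D := Nat.card_pos
  have key : Nat.card D * ∑ z : {z : G // x⁻¹ * z ∈ B}, cB D z = ∑ z : {z : G // x⁻¹ * z ∈ B}, P D z := by
    have e1 : Nat.card D * ∑ z : {z : G // x⁻¹ * z ∈ B}, cB D z =
        Nat.card (D × Σ z : {z : G // x⁻¹ * z ∈ B}, {b : G // b ∈ D ∧ b * z = z * b}) := by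
      rw [Nat.card_prod, Nat.card_sigma]; rfl
    have e2 : ∑ z : {z : G // x⁻¹ * z ∈ B}, P D z = Nat.card (Σ z : {z : G // x⁻¹ * z ∈ B}, PS D z) := by
      rw [Nat.card_sigma]; rfl
    rw [e1, e2]
    refine Nat.card_congr
      { toFun := fun t => ⟨⟨t.2.1.1 * t.1.1⁻¹, ?_⟩, ⟨(t.2.2.1, t.2.1.1), t.2.2.2.1, ?_, t.2.2.2.2⟩⟩
        invFun := fun t => (⟨t.1.1⁻¹ * t.2.1.2, t.2.2.2.1⟩, ⟨⟨t.2.1.2, ?_⟩, ⟨t.2.1.1, t.2.2.1, t.2.2.2.2⟩⟩)
        left_inv := ?_
        right_inv := ?_ }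
    · rw [← mul_assoc]
      exact B.mul_mem t.2.1.2 (B.inv_mem (hD t.1.2))
    · change (t.2.1.1 * t.1.1⁻¹)⁻¹ * t.2.1.1 ∈ D
      have e : (t.2.1.1 * t.1.1⁻¹)⁻¹ * t.2.1.1 = t.1.1 := by group
      rw [e]
      exact t.1.2
    · have h3 := B.mul_mem t.1.2 (hD t.2.2.2.1)
      have e : x⁻¹ * t.1.1 * (t.1.1⁻¹ * t.2.1.2) = x⁻¹ * t.2.1.2 := by group
      rwa [e] at h3
    · rintro ⟨⟨d, hd⟩, ⟨⟨z, hz⟩, ⟨b, hb, hbz⟩⟩⟩
      refine Prod.ext (Subtype.ext ?_) rfl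
      change (z * d⁻¹)⁻¹ * z = d
      group
    · rintro ⟨⟨z, hz⟩, ⟨⟨b, y⟩, hb, hy, hby⟩⟩
      have e : y * (z⁻¹ * y)⁻¹ = z := by group
      have e' : (⟨y * (z⁻¹ * y)⁻¹, by rw [e]; exact hz⟩ : {z : G // x⁻¹ * z ∈ B}) = ⟨z, hz⟩ := Subtype.ext e
      refine Sigma.ext e' ?_
      change HEq (⟨(b, y), _⟩ : PS D (y * (z⁻¹ * y)⁻¹)) (⟨(b, y), _⟩ : PS D z)
      congr 1
      · rw [e]
      · exact proof_irrel_heq _ _
  rw [P_eq_sum]
  have h3 : ∑ z : {z : G // x⁻¹ * z ∈ B}, cB B z ≤ q * ∑ z : {z : G // x⁻¹ * z ∈ B}, cB D z := by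
    rw [Finset.mul_sum]
    exact Finset.sum_le_sum fun z _ => h1 z z.2
  have h4 : ∑ z : {z : G // x⁻¹ * z ∈ B}, P D z ≤ Nat.card B * (c * Nat.card D) := by
    calc ∑ z : {z : G // x⁻¹ * z ∈ B}, P D z ≤ ∑ _z : {z : G // x⁻¹ * z ∈ B}, c * Nat.card D :=
          Finset.sum_le_sum fun z _ => h2 z z.2
      _ = Nat.card B * (c * Nat.card D) := by
        rw [Finset.sum_const, Finset.card_univ, smul_eq_mul, ← Nat.card_eq_fintype_card, card_coset]
  have h5 : ∑ z : {z : G // x⁻¹ * z ∈ B}, cB D z ≤ c * Nat.card B := by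
    refine Nat.le_of_mul_le_mul_left ?_ hDpos
    rw [key]
    refine h4.trans (le_of_eq ?_)
    ring
  calc ∑ z : {z : G // x⁻¹ * z ∈ B}, cB B z ≤ q * ∑ z : {z : G // x⁻¹ * z ∈ B}, cB D z := h3
    _ ≤ q * (c * Nat.card B) := Nat.mul_le_mul_left _ h5
    _ = q * c * Nat.card B := by ring

/-- `|C_B(z)| ≤ |f(B)| |C_D(z)|` if the elements of `C_B(z)` in the kernel of `f` lie in `D`. -/
theorem cB_le {H : Type*} [Group H] [Finite G] (K : Subgroup G) (f : K →* H) (B D : Subgroup G) (hBK : B ≤ K) (z : G)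
    (q : ℕ) (hq : Nat.card f.range ≤ q)
    (h : ∀ b (hb : b ∈ B), b * z = z * b → f ⟨b, hBK hb⟩ = 1 → b ∈ D) :
    cB B z ≤ q * cB D z := by
  classical
  have hfin : Finite f.range := Finite.of_surjective _ f.rangeRestrict_surjective
  let F : {b : G // b ∈ B ∧ b * z = z * b} → f.range := fun b => ⟨f ⟨b.1, hBK b.2.1⟩, ⟨_, rfl⟩⟩
  have h1 : cB B z ≤ cB D z * Nat.card f.range := by
    refine card_le_mul_of_fiber F _ fun t => ?_
    rcases isEmpty_or_nonempty {a // F a = t} with he | ⟨⟨b0, hb0⟩⟩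
    · rw [Nat.card_of_isEmpty]; exact Nat.zero_le _
    refine Nat.card_le_card_of_injective (fun a => ⟨b0.1⁻¹ * a.1.1, ?_, ?_⟩) ?_
    · have c0 : Commute z b0.1 := b0.2.2.symm
      have c1 : Commute z a.1.1 := a.1.2.2.symm
      refine h _ (B.mul_mem (B.inv_mem b0.2.1) a.1.2.1) (c0.inv_right.mul_right c1).symm ?_
      have e : (⟨b0.1⁻¹ * a.1.1, hBK (B.mul_mem (B.inv_mem b0.2.1) a.1.2.1)⟩ : K) =
        (⟨b0.1, hBK b0.2.1⟩ : K)⁻¹ * ⟨a.1.1, hBK a.1.2.1⟩ := rfl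
      have e1 : f ⟨b0.1, hBK b0.2.1⟩ = t := congrArg Subtype.val hb0
      have e2 : f ⟨a.1.1, hBK a.1.2.1⟩ = t := congrArg Subtype.val a.2
      rw [e, map_mul, map_inv, e1, e2, inv_mul_cancel]
    · have c0 : Commute z b0.1 := b0.2.2.symm
      have c1 : Commute z a.1.1 := a.1.2.2.symm
      exact (c0.inv_right.mul_right c1).symm
    · intro a b hab
      have := congrArg Subtype.val hab
      exact Subtype.ext (Subtype.ext (mul_left_cancel this))
  refine h1.trans ?_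
  rw [mul_comm]
  exact Nat.mul_le_mul_right _ hq

/-- The number of classes of `G`, from the numbers of orbits of the kernel on cosets. -/
theorem kc_le_sum [Finite G] {H : Type*} [Group H] (φ : G →* H) [Fintype (ConjClasses φ.range)]
    (x : ConjClasses φ.range → G) (hx : ∀ c, ConjClasses.mk (φ.rangeRestrict (x c)) = c)
    (n : ConjClasses φ.range → ℕ) (hn : ∀ c, P φ.ker (x c) ≤ n c * Nat.card φ.ker) :
    Nat.card (ConjClasses G) ≤ ∑ c, n c := by
  classical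
  have := Fintype.ofFinite G
  have := Fintype.ofFinite φ.ker
  let X : ConjClasses φ.range → Type _ := fun c => {y : G // (x c)⁻¹ * y ∈ φ.ker}
  have hXfin : ∀ c, Finite (X c) := fun c => inferInstanceAs (Finite {y : G // (x c)⁻¹ * y ∈ φ.ker})
  let act : ∀ c, MulAction φ.ker (X c) := fun c =>
    { smul := fun b y => ⟨b.1 * y.1 * b.1⁻¹, by
        have h1 := y.2
        have h2 := b.2
        rw [MonoidHom.mem_ker] at h1 h2 ⊢
        rw [map_mul, map_mul, map_mul, map_inv, map_inv, h2, one_mul, inv_one, mul_one, ← map_inv, ← map_mul, h1]⟩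
      one_smul := fun y => Subtype.ext (by change (1 : G) * y.1 * (1 : G)⁻¹ = y.1; simp)
      mul_smul := fun a b y => Subtype.ext (by
        change (a.1 * b.1) * y.1 * (a.1 * b.1)⁻¹ = a.1 * (b.1 * y.1 * b.1⁻¹) * a.1⁻¹
        group) }
  have hsm : ∀ c (b : φ.ker) (y : X c), ((b • y : X c) : G) = b.1 * y.1 * b.1⁻¹ := fun c b y => rfl
  have hO : ∀ c, Nat.card (MulAction.orbitRel.Quotient φ.ker (X c)) ≤ n c := by
    intro c
    have := Fintype.ofFinite (X c)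
    have := Fintype.ofFinite (MulAction.orbitRel.Quotient φ.ker (X c))
    have hB := MulAction.sum_card_fixedBy_eq_card_orbits_mul_card_group φ.ker (X c)
    have hpos : 0 < Nat.card φ.ker := Nat.card_pos
    refine Nat.le_of_mul_le_mul_right ?_ hpos
    refine le_trans (le_of_eq ?_) (hn c)
    rw [Nat.card_eq_fintype_card, Nat.card_eq_fintype_card, P_eq_sum']
    refine Eq.trans ?_ (hB.symm.trans ?_)
    · rfl
    · refine Finset.sum_congr rfl fun b _ => ?_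
      rw [← Nat.card_eq_fintype_card]
      refine Nat.card_congr
        { toFun := fun y => ⟨y.1.1, y.1.2, ?_⟩
          invFun := fun y => ⟨⟨y.1, y.2.1⟩, ?_⟩
          left_inv := fun y => rfl
          right_inv := fun y => rfl }
      · have h1 : b • y.1 = y.1 := y.2
        have h2 := congrArg Subtype.val h1
        rw [hsm, mul_inv_eq_iff_eq_mul] at h2
        exact h2
      · change b • (⟨y.1, y.2.1⟩ : X c) = ⟨y.1, y.2.1⟩
        apply Subtype.ext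
        rw [hsm, mul_inv_eq_iff_eq_mul]
        exact y.2.2
  have hfinO : ∀ c, Finite (MulAction.orbitRel.Quotient φ.ker (X c)) := fun c => Quotient.finite _
  have hsurj : ∃ F : (Σ c, MulAction.orbitRel.Quotient φ.ker (X c)) → ConjClasses G, Function.Surjective F := by
    refine ⟨fun t => Quotient.liftOn' t.2 (fun y => ConjClasses.mk y.1) ?_, ?_⟩
    · intro a b hab
      obtain ⟨g, hg⟩ := hab
      have h1 := congrArg Subtype.val hg
      rw [ConjClasses.mk_eq_mk_iff_isConj, isConj_comm, isConj_iff]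
      exact ⟨g.1, h1⟩
    · intro C
      obtain ⟨g, rfl⟩ := ConjClasses.mk_surjective C
      have h1 := hx (ConjClasses.mk (φ.rangeRestrict g))
      rw [ConjClasses.mk_eq_mk_iff_isConj, isConj_comm, isConj_iff] at h1
      obtain ⟨⟨_, ⟨h, rfl⟩⟩, hh⟩ := h1
      have h2 : φ h * φ g * (φ h)⁻¹ = φ (x (ConjClasses.mk (φ.rangeRestrict g))) := congrArg Subtype.val hh
      refine ⟨⟨ConjClasses.mk (φ.rangeRestrict g), Quotient.mk'' ⟨h * g * h⁻¹, ?_⟩⟩, ?_⟩
      · rw [MonoidHom.mem_ker, map_mul, map_mul, map_mul, map_inv, map_inv, ← h2]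
        group
      · change ConjClasses.mk (h * g * h⁻¹) = ConjClasses.mk g
        rw [ConjClasses.mk_eq_mk_iff_isConj, isConj_comm, isConj_iff]
        exact ⟨h, rfl⟩
  obtain ⟨F, hF⟩ := hsurj
  calc Nat.card (ConjClasses G) ≤ Nat.card (Σ c, MulAction.orbitRel.Quotient φ.ker (X c)) :=
        Nat.card_le_card_of_surjective F hF
    _ = ∑ c, Nat.card (MulAction.orbitRel.Quotient φ.ker (X c)) := Nat.card_sigma
    _ ≤ ∑ c, n c := Finset.sum_le_sum fun c _ => hO c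

end Cfsg.Agent.H388.KGL
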