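import Cfsg.Agent.H475.KGL.Rows
import Cfsg.Agent.H540.ClassNum

/-!
# Project KGL, task T2: the reducible case

* `res` : the restriction of a linear group to an invariant subspace, `ker_res`, `range_res`;
* `exists_isCompl_inv` : Maschke's theorem;
* `red_bd` : `k(G) < |V| - 1` if `G` is reducible and the bound holds for proper subspaces.
-/

set_option autoImplicit false

namespace Cfsg.Agent.H388.KGL

open Cfsg.Agent.H475.KGL Subgroup

section Res

variable {p : ℕ} {V : Type*} [AddCommGroup V] [Module (ZMod p) V]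

/-- Restriction of a linear group to an invariant subspace. -/
def res (G : Subgroup (V ≃ₗ[ZMod p] V)) (U : Submodule (ZMod p) V) (h : ∀ g ∈ G, ∀ u ∈ U, g u ∈ U) :
    G →* (U ≃ₗ[ZMod p] U) where
  toFun g :=
    { toFun := fun u => ⟨(g : V ≃ₗ[ZMod p] V) u, h g g.2 u u.2⟩
      invFun := fun u => ⟨((g⁻¹ : G) : V ≃ₗ[ZMod p] V) u, h _ (g⁻¹).2 u u.2⟩
      map_add' := fun a b => Subtype.ext (map_add (g : V ≃ₗ[ZMod p] V) _ _)
      map_smul' := fun c a => Subtype.ext (map_smul (g : V ≃ₗ[ZMod p] V) _ _)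
      left_inv := fun u => Subtype.ext ((g : V ≃ₗ[ZMod p] V).symm_apply_apply u)
      right_inv := fun u => Subtype.ext ((g : V ≃ₗ[ZMod p] V).apply_symm_apply u) }
  map_one' := by ext u; rfl
  map_mul' a b := by ext u; rfl

@[simp]
theorem res_apply (G : Subgroup (V ≃ₗ[ZMod p] V)) (U : Submodule (ZMod p) V) (h : ∀ g ∈ G, ∀ u ∈ U, g u ∈ U)
    (g : G) (u : U) : (res G U h g u : V) = (g : V ≃ₗ[ZMod p] V) u := rfl

theorem res_eq_one_iff (G : Subgroup (V ≃ₗ[ZMod p] V)) (U : Submodule (ZMod p) V) (h : ∀ g ∈ G, ∀ u ∈ U, g u ∈ U)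
    (g : G) : res G U h g = 1 ↔ ∀ u ∈ U, (g : V ≃ₗ[ZMod p] V) u = u := by
  constructor
  · intro hg u hu
    have := congrArg (fun f : U ≃ₗ[ZMod p] U => (f ⟨u, hu⟩ : V)) hg
    exact this
  · intro hg
    apply LinearEquiv.ext
    intro u
    exact Subtype.ext (hg u u.2)

theorem range_res (G : Subgroup (V ≃ₗ[ZMod p] V)) (U : Submodule (ZMod p) V) (h : ∀ g ∈ G, ∀ u ∈ U, g u ∈ U) :
    (res G U h).range = img G U := by
  ext a
  rw [mem_img]
  constructor
  · rintro ⟨g, rfl⟩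
    exact ⟨g, g.2, fun w => rfl⟩
  · rintro ⟨g, hg, ha⟩
    refine ⟨⟨g, hg⟩, ?_⟩
    apply LinearEquiv.ext
    intro u
    exact Subtype.ext (ha u).symm

/-- Maschke's theorem. -/
theorem exists_isCompl_inv [Fact p.Prime] (G : Subgroup (V ≃ₗ[ZMod p] V)) [Finite G] (hG : ¬ p ∣ Nat.card G)
    (U : Submodule (ZMod p) V) (h : ∀ g ∈ G, ∀ u ∈ U, g u ∈ U) :
    ∃ U' : Submodule (ZMod p) V, IsCompl U U' ∧ ∀ g ∈ G, ∀ u ∈ U', g u ∈ U' := by
  classical
  have := Fintype.ofFinite G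
  obtain ⟨π, hπ⟩ := LinearMap.exists_leftInverse_of_injective U.subtype U.ker_subtype
  have hπ' : ∀ u (hu : u ∈ U), (π u : V) = u := fun u hu => by
    have := LinearMap.congr_fun hπ ⟨u, hu⟩
    exact congrArg Subtype.val this
  have hc : (Nat.card G : ZMod p) ≠ 0 := by
    rw [Ne, ZMod.natCast_eq_zero_iff]
    exact hG
  let σ : V →ₗ[ZMod p] V := (Nat.card G : ZMod p)⁻¹ •
    ∑ g : G, ((g : V ≃ₗ[ZMod p] V) : V →ₗ[ZMod p] V) ∘ₗ U.subtype ∘ₗ π ∘ₗ
      (((g⁻¹ : G) : V ≃ₗ[ZMod p] V) : V →ₗ[ZMod p] V)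
  have hσ : ∀ v, σ v = (Nat.card G : ZMod p)⁻¹ • ∑ g : G, (g : V ≃ₗ[ZMod p] V) (π (((g⁻¹ : G) : V ≃ₗ[ZMod p] V) v)) := by
    intro v
    simp only [σ, LinearMap.smul_apply, LinearMap.sum_apply]
    rfl
  have hσU : ∀ v, σ v ∈ U := by
    intro v
    rw [hσ]
    exact U.smul_mem _ (U.sum_mem fun g _ => h g g.2 _ (π _).2)
  have hσu : ∀ u ∈ U, σ u = u := by
    intro u hu
    rw [hσ]
    have h1 : ∀ g : G, (g : V ≃ₗ[ZMod p] V) (π (((g⁻¹ : G) : V ≃ₗ[ZMod p] V) u)) = u := by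
      intro g
      rw [hπ' _ (h _ (g⁻¹).2 u hu)]
      exact (g : V ≃ₗ[ZMod p] V).apply_symm_apply u
    rw [Finset.sum_congr rfl fun g _ => h1 g, Finset.sum_const, Finset.card_univ, ← Nat.card_eq_fintype_card,
      ← Nat.cast_smul_eq_nsmul (ZMod p), smul_smul, inv_mul_cancel₀ hc, one_smul]
  have hσg : ∀ g ∈ G, ∀ v, σ (g v) = g (σ v) := by
    intro x hx v
    rw [hσ, hσ, map_smul, map_sum]
    congr 1
    refine Fintype.sum_equiv (Equiv.mulLeft (⟨x, hx⟩ : G)⁻¹) _ _ fun g => ?_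
    have e1 : (((Equiv.mulLeft (⟨x, hx⟩ : G)⁻¹ g)⁻¹ : G) : V ≃ₗ[ZMod p] V) v =
        ((g⁻¹ : G) : V ≃ₗ[ZMod p] V) (x v) := by
      have : ((Equiv.mulLeft (⟨x, hx⟩ : G)⁻¹ g)⁻¹ : G) = g⁻¹ * ⟨x, hx⟩ := by
        rw [Equiv.coe_mulLeft, mul_inv_rev, inv_inv]
      rw [this]
      rfl
    have e2 : ∀ w : V, x (((Equiv.mulLeft (⟨x, hx⟩ : G)⁻¹ g : G) : V ≃ₗ[ZMod p] V) w) = (g : V ≃ₗ[ZMod p] V) w := by
      intro w
      have : (Equiv.mulLeft (⟨x, hx⟩ : G)⁻¹ g : G) = (⟨x, hx⟩ : G)⁻¹ * g := rfl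
      rw [this]
      exact x.apply_symm_apply _
    rw [e1, e2]
  refine ⟨LinearMap.ker σ, ?_, ?_⟩
  · constructor
    · rw [Submodule.disjoint_def]
      intro u hu hu'
      rw [LinearMap.mem_ker] at hu'
      rw [← hσu u hu, hu']
    · rw [codisjoint_iff, eq_top_iff]
      intro v _
      rw [Submodule.mem_sup]
      refine ⟨σ v, hσU v, v - σ v, ?_, by abel⟩
      rw [LinearMap.mem_ker, map_sub, hσu _ (hσU v), sub_self]
  · intro g hg u hu
    rw [LinearMap.mem_ker] at hu ⊢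
    rw [hσg g hg, hu, map_zero]

end Res

section Red

variable {p : ℕ} [Fact p.Prime] {V : Type*} [AddCommGroup V] [Module (ZMod p) V] [Finite V]

theorem finite_linearEquiv : Finite (V ≃ₗ[ZMod p] V) :=
  Finite.of_injective (fun f : V ≃ₗ[ZMod p] V => (f : V → V)) DFunLike.coe_injective

/-- The class number of a linear group with a faithful invariant subspace. -/
theorem kc_le_of_faithful (G : Subgroup (V ≃ₗ[ZMod p] V)) (hG : ¬ p ∣ Nat.card G)
    (U : Submodule (ZMod p) V) (h : ∀ g ∈ G, ∀ u ∈ U, g u ∈ U) (hU : Bd p U) (N : Subgroup G)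
    (hN : ∀ g ∈ N, (∀ u ∈ U, (g : V ≃ₗ[ZMod p] V) u = u) → g = 1) : kc N ≤ Nat.card U - 1 := by
  have hfin : Finite (V ≃ₗ[ZMod p] V) := finite_linearEquiv
  let f : N →* (U ≃ₗ[ZMod p] U) := (res G U h).comp N.subtype
  have hf : Function.Injective f := by
    rw [injective_iff_map_eq_one]
    intro g hg
    have : res G U h g = 1 := hg
    rw [res_eq_one_iff] at this
    exact Subtype.ext (hN g g.2 this)
  have e := MonoidHom.ofInjective hf
  have hcard : Nat.card f.range = Nat.card N := (Nat.card_congr e.toEquiv).symm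
  have hp : ¬ p ∣ Nat.card f.range := by
    rw [hcard]
    exact fun hd => hG (hd.trans (Subgroup.card_subgroup_dvd_card N))
  have := (hU f.range hp).1
  have h2 : kc N = kc f.range := Cfsg.Agent.H540.ClassNum.card_conjClasses_congr e
  rw [h2]
  exact this

/-- T2: the reducible case. -/
theorem red_bd [Nontrivial V] (IH : ∀ U : Submodule (ZMod p) V, U ≠ ⊥ → U ≠ ⊤ → Bd p U)
    (G : Subgroup (V ≃ₗ[ZMod p] V)) (hG : ¬ p ∣ Nat.card G) (hI : ¬ Irr G) : kc G < Nat.card V - 1 := by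
  have hfin : Finite (V ≃ₗ[ZMod p] V) := finite_linearEquiv
  have hI' : ∃ U : Submodule (ZMod p) V, (∀ g ∈ G, ∀ u ∈ U, g u ∈ U) ∧ U ≠ ⊥ ∧ U ≠ ⊤ := by
    unfold Irr at hI
    push Not at hI
    exact hI
  obtain ⟨U, hU, hU0, hU1⟩ := hI'
  obtain ⟨U', hc, hU'⟩ := exists_isCompl_inv G hG U hU
  have hU'0 : U' ≠ ⊥ := by
    rintro rfl
    exact hU1 (eq_top_of_isCompl_bot hc)
  have hU'1 : U' ≠ ⊤ := by
    rintro rfl
    exact hU0 (eq_bot_of_isCompl_top hc)
  have hfU : Finite U := inferInstance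
  have hfU' : Finite U' := inferInstance
  have hcard : Nat.card V = Nat.card U * Nat.card U' := by
    rw [← Nat.card_prod]
    exact (Nat.card_congr (Submodule.prodEquivOfIsCompl U U' hc).toEquiv).symm
  have hg1 : Nat.card U ≥ 2 := by
    have := Submodule.nontrivial_iff_ne_bot.2 hU0
    exact Finite.one_lt_card_iff_nontrivial.2 this
  have hg2 : Nat.card U' ≥ 2 := by
    have := Submodule.nontrivial_iff_ne_bot.2 hU'0
    exact Finite.one_lt_card_iff_nontrivial.2 this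
  have k1 : kc (res G U hU).range ≤ Nat.card U - 1 := by
    have hp : ¬ p ∣ Nat.card (res G U hU).range :=
      fun hd => hG (hd.trans (Subgroup.card_range_dvd _))
    exact (IH U hU0 hU1 _ hp).1
  have k2 : kc (res G U hU).ker ≤ Nat.card U' - 1 := by
    refine kc_le_of_faithful G hG U' hU' (IH U' hU'0 hU'1) _ ?_
    intro g hg hg'
    rw [MonoidHom.mem_ker, res_eq_one_iff] at hg
    apply Subtype.ext
    apply LinearEquiv.ext
    intro v
    obtain ⟨a, ha, b, hb, rfl⟩ := Submodule.mem_sup.1 (show v ∈ U ⊔ U' by rw [hc.sup_eq_top]; trivial)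
    rw [map_add, hg a ha, hg' b hb]
    rfl
  have k3 := Cfsg.Agent.H540.ClassNum.le_ker_mul_range (res G U hU)
  have k4 : kc G ≤ (Nat.card U' - 1) * (Nat.card U - 1) := k3.trans (Nat.mul_le_mul k2 k1)
  rw [hcard]
  obtain ⟨a, ha⟩ := Nat.exists_eq_add_of_le hg1
  obtain ⟨b, hb⟩ := Nat.exists_eq_add_of_le hg2
  rw [ha, hb] at k4 ⊢
  refine lt_of_le_of_lt k4 ?_
  have e1 : 2 + b - 1 = b + 1 := by omega
  have e2 : 2 + a - 1 = a + 1 := by omega
  rw [e1, e2]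
  have e3 : (2 + a) * (2 + b) - 1 = (b + 1) * (a + 1) + (a + b + 2) := by
    have : (2 + a) * (2 + b) = (b + 1) * (a + 1) + (a + b + 2) + 1 := by ring
    rw [this]; rfl
  rw [e3]
  omega

end Red

end Cfsg.Agent.H388.KGL
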