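import Cfsg.Agent.H475.KGL.Rows
import Cfsg.Agent.H388.KGL.Red
import Cfsg.Agent.H388.KGL.Count

/-!
# Project KGL, task T6: the exceptional case

* `resH` : restriction of a group of linear maps to an invariant subspace;
* `exc_map` : `Exc` passes to the translates;
* `Sys` : a group permuting the summands of `V`; `KT` : the kernels; `sys_count` : the count;
* `exists_sys` : the translates of a block;
* `exc_bd` : T6.
-/

set_option autoImplicit false

namespace Cfsg.Agent.H388.KGL

open Cfsg.Agent.H475.KGL Subgroup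

variable {p : ℕ} {V : Type*} [AddCommGroup V] [Module (ZMod p) V]

section Trans

/-- Conjugation by a linear equivalence. -/
def conjE {W Y : Type*} [AddCommGroup W] [Module (ZMod p) W] [AddCommGroup Y] [Module (ZMod p) Y]
    (e : W ≃ₗ[ZMod p] Y) : (W ≃ₗ[ZMod p] W) ≃* (Y ≃ₗ[ZMod p] Y) where
  toFun a := e.symm.trans (a.trans e)
  invFun a := e.trans (a.trans e.symm)
  left_inv a := by ext x; simp
  right_inv a := by ext x; simp
  map_mul' a b := by ext x; simp [LinearEquiv.mul_apply]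

theorem img_map (G : Subgroup (V ≃ₗ[ZMod p] V)) (W : Submodule (ZMod p) V) (g : V ≃ₗ[ZMod p] V) (hg : g ∈ G) :
    img G (W.map (g : V →ₗ[ZMod p] V)) = (img G W).map (conjE (g.submoduleMap W)).toMonoidHom := by
  ext a
  rw [mem_img, Subgroup.mem_map]
  constructor
  · rintro ⟨h, hh, ha⟩
    refine ⟨(conjE (g.submoduleMap W)).symm a, ?_, ?_⟩
    · rw [mem_img]
      refine ⟨g⁻¹ * h * g, G.mul_mem (G.mul_mem (G.inv_mem hg) hh) hg, fun w => ?_⟩
      change ((g.submoduleMap W).symm (a (g.submoduleMap W w)) : V) = g.symm (h (g w))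
      rw [LinearEquiv.eq_symm_apply, ← LinearEquiv.submoduleMap_apply g W, LinearEquiv.apply_symm_apply, ha]
      rfl
    · exact (conjE (g.submoduleMap W)).apply_symm_apply a
  · rintro ⟨b, hb, rfl⟩
    rw [mem_img] at hb
    obtain ⟨h, hh, hb⟩ := hb
    refine ⟨g * h * g⁻¹, G.mul_mem (G.mul_mem hg hh) (G.inv_mem hg), fun w => ?_⟩
    change (g.submoduleMap W (b ((g.submoduleMap W).symm w)) : V) = g (h (g.symm w))
    rw [LinearEquiv.submoduleMap_apply, hb]
    rfl

theorem SN_map {A A' : Type*} [Group A] [Group A'] (E : A ≃* A') {H : Subgroup A} {N : Subgroup A'}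
    (hN : SN N (H.map E.toMonoidHom)) : SN (N.comap E.toMonoidHom) H := by
  obtain ⟨h1, h2⟩ := hN
  refine ⟨?_, ?_⟩
  · intro a ha
    obtain ⟨b, hb, hab⟩ := h1 ha
    rwa [← E.injective hab]
  · have h3 := h2.comap (E.subgroupMap H).toMonoidHom
    have e : (N.subgroupOf (H.map E.toMonoidHom)).comap (E.subgroupMap H).toMonoidHom =
        (N.comap E.toMonoidHom).subgroupOf H := rfl
    rwa [← e]

theorem kc_comap {A A' : Type*} [Group A] [Group A'] (E : A ≃* A') (N : Subgroup A') :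
    kc (N.comap E.toMonoidHom) = kc N := by
  have e1 : N = (N.comap E.toMonoidHom).map E.toMonoidHom :=
    (Subgroup.map_comap_eq_self_of_surjective E.surjective N).symm
  conv_rhs => rw [e1]
  exact Cfsg.Agent.H540.ClassNum.card_conjClasses_congr (E.subgroupMap _)

/-- `Exc` passes to the translates. -/
theorem exc_map (G : Subgroup (V ≃ₗ[ZMod p] V)) (W : Submodule (ZMod p) V) (g : V ≃ₗ[ZMod p] V) (hg : g ∈ G)
    (h : Exc (img G W)) : Exc (img G (W.map (g : V →ₗ[ZMod p] V))) := by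
  obtain ⟨h1, h2, h3⟩ := h
  rw [img_map G W g hg]
  refine ⟨?_, ?_, ?_⟩
  · rw [← h1]
    exact (Nat.card_congr (g.submoduleMap W).toEquiv).symm
  · rw [Subgroup.card_map_of_injective (conjE (g.submoduleMap W)).injective]
    exact h2
  · intro N hN
    rw [← kc_comap (conjE (g.submoduleMap W)) N]
    exact h3 _ (SN_map _ hN)

end Trans

section Sys

/-- Restriction of a group of linear maps to an invariant subspace. -/
def resH {K : Type*} [Group K] (ρ : K →* (V ≃ₗ[ZMod p] V)) (U : Submodule (ZMod p) V)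
    (h : ∀ g, ∀ u ∈ U, ρ g u ∈ U) : K →* (U ≃ₗ[ZMod p] U) where
  toFun g :=
    { toFun := fun u => ⟨ρ g u, h g u u.2⟩
      invFun := fun u => ⟨ρ g⁻¹ u, h _ u u.2⟩
      map_add' := fun a b => Subtype.ext (map_add (ρ g) _ _)
      map_smul' := fun c a => Subtype.ext (map_smul (ρ g) _ _)
      left_inv := fun u => Subtype.ext (by
        have h1 : ρ g⁻¹ (ρ g u) = u := by rw [map_inv]; exact (ρ g).symm_apply_apply u
        exact h1)
      right_inv := fun u => Subtype.ext (by
        have h1 : ρ g (ρ g⁻¹ u) = u := by rw [map_inv]; exact (ρ g).apply_symm_apply u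
        exact h1) }
  map_one' := by
    ext u
    change ρ 1 u = u
    rw [map_one]; rfl
  map_mul' a b := by
    ext u
    change ρ (a * b) u = ρ a (ρ b u)
    rw [map_mul]; rfl

theorem resH_apply {K : Type*} [Group K] (ρ : K →* (V ≃ₗ[ZMod p] V)) (U : Submodule (ZMod p) V)
    (h : ∀ g, ∀ u ∈ U, ρ g u ∈ U) (g : K) (u : U) : (resH ρ U h g u : V) = ρ g u := rfl

theorem resH_eq_one_iff {K : Type*} [Group K] (ρ : K →* (V ≃ₗ[ZMod p] V)) (U : Submodule (ZMod p) V)
    (h : ∀ g, ∀ u ∈ U, ρ g u ∈ U) (g : K) : resH ρ U h g = 1 ↔ ∀ u ∈ U, ρ g u = u := by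
  constructor
  · intro hg u hu
    have := congrArg (fun f : U ≃ₗ[ZMod p] U => (f ⟨u, hu⟩ : V)) hg
    exact this
  · intro hg
    apply LinearEquiv.ext
    intro u
    exact Subtype.ext (hg u u.2)

/-- `G` permutes the subspaces `Y i` (whose sum is `V` and which intersect trivially) through `φ`. -/
structure Sys (G : Subgroup (V ≃ₗ[ZMod p] V)) {m : ℕ} (Y : Fin m → Submodule (ZMod p) V)
    (φ : G →* Equiv.Perm (Fin m)) : Prop where
  perm : ∀ (g : G) (i : Fin m) (w : V), w ∈ Y i → (g : V ≃ₗ[ZMod p] V) w ∈ Y (φ g i)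
  top : ⨆ i, Y i = ⊤
  disj : ∀ i j, i ≠ j → Disjoint (Y i) (Y j)
  ne : ∀ i, Y i ≠ ⊥

variable {G : Subgroup (V ≃ₗ[ZMod p] V)} {m : ℕ} {Y : Fin m → Submodule (ZMod p) V}
  {φ : G →* Equiv.Perm (Fin m)}

/-- The elements of the kernel of `φ` which are trivial on the `Y i` with `i ∉ T`. -/
def KT (_S : Sys G Y φ) (T : Finset (Fin m)) : Subgroup G where
  carrier := {g | φ g = 1 ∧ ∀ i, i ∉ T → ∀ w ∈ Y i, (g : V ≃ₗ[ZMod p] V) w = w}
  one_mem' := ⟨map_one φ, fun i _ w _ => rfl⟩
  mul_mem' := by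
    rintro a b ⟨h1, h2⟩ ⟨h3, h4⟩
    refine ⟨by rw [map_mul, h1, h3, one_mul], fun i hi w hw => ?_⟩
    change (a : V ≃ₗ[ZMod p] V) ((b : V ≃ₗ[ZMod p] V) w) = w
    rw [h4 i hi w hw, h2 i hi w hw]
  inv_mem' := by
    rintro a ⟨h1, h2⟩
    refine ⟨by rw [map_inv, h1, inv_one], fun i hi w hw => ?_⟩
    change (a : V ≃ₗ[ZMod p] V).symm w = w
    rw [LinearEquiv.symm_apply_eq, h2 i hi w hw]

variable (S : Sys G Y φ)

theorem mem_KT {T : Finset (Fin m)} {g : G} :
    g ∈ KT S T ↔ φ g = 1 ∧ ∀ i, i ∉ T → ∀ w ∈ Y i, (g : V ≃ₗ[ZMod p] V) w = w := Iff.rfl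

theorem KT_le (T : Finset (Fin m)) : KT S T ≤ φ.ker := fun _ hg => hg.1

theorem KT_mono {T T' : Finset (Fin m)} (h : T ⊆ T') : KT S T ≤ KT S T' :=
  fun _ hg => ⟨hg.1, fun i hi => hg.2 i fun h' => hi (h h')⟩

theorem KT_empty : KT S ∅ = ⊥ := by
  rw [eq_bot_iff]
  intro g hg
  rw [Subgroup.mem_bot]
  apply Subtype.ext
  apply LinearEquiv.ext
  intro v
  have h1 : (⊤ : Submodule (ZMod p) V) ≤ LinearMap.eqLocus ((g : V ≃ₗ[ZMod p] V) : V →ₗ[ZMod p] V) LinearMap.id := by
    rw [← S.top]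
    refine iSup_le fun i w hw => ?_
    exact hg.2 i (Finset.notMem_empty i) w hw
  exact h1 (Submodule.mem_top : v ∈ ⊤)

theorem KT_univ : KT S Finset.univ = φ.ker := by
  refine le_antisymm (KT_le S _) fun g hg => ⟨hg, fun i hi => ?_⟩
  exact absurd (Finset.mem_univ i) hi

/-- The stabiliser of `i`. -/
def St (_S : Sys G Y φ) (i : Fin m) : Subgroup G where
  carrier := {g | φ g i = i}
  one_mem' := by change φ 1 i = i; rw [map_one]; rfl
  mul_mem' := by
    intro a b ha hb
    change φ (a * b) i = i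
    rw [map_mul, Equiv.Perm.mul_apply]
    rw [show φ b i = i from hb, show φ a i = i from ha]
  inv_mem' := by
    intro a ha
    change φ a⁻¹ i = i
    rw [map_inv, Equiv.Perm.inv_eq_iff_eq]
    exact (show φ a i = i from ha).symm

theorem ker_le_St (i : Fin m) : φ.ker ≤ St S i := by
  intro g hg
  rw [MonoidHom.mem_ker] at hg
  change φ g i = i
  rw [hg]; rfl

/-- The action of the stabiliser of `i` on `Y i`. -/
def rS (i : Fin m) : St S i →* (Y i ≃ₗ[ZMod p] Y i) :=
  resH (G.subtype.comp (St S i).subtype) (Y i) (fun g u hu => by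
    have h1 := S.perm g.1 i u hu
    rwa [show φ g.1 i = i from g.2] at h1)

theorem rS_eq_one_iff (i : Fin m) (g : St S i) :
    rS S i g = 1 ↔ ∀ w ∈ Y i, ((g : G) : V ≃ₗ[ZMod p] V) w = w :=
  resH_eq_one_iff _ _ _ _

theorem range_rS (i : Fin m) : (rS S i).range = img G (Y i) := by
  ext a
  rw [mem_img]
  constructor
  · rintro ⟨g, rfl⟩
    exact ⟨g.1.1, g.1.2, fun w => rfl⟩
  · rintro ⟨g, hg, ha⟩
    have hst : φ ⟨g, hg⟩ i = i := by
      by_contra hne
      have := (Submodule.ne_bot_iff _).1 (S.ne i)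
      obtain ⟨w, hw, hw0⟩ := this
      have h1 := S.perm ⟨g, hg⟩ i w hw
      have h2 : g w ∈ Y i := by rw [← ha ⟨w, hw⟩]; exact (a _).2
      have h3 := Submodule.disjoint_def.1 (S.disj _ _ hne) _ h1 h2
      exact hw0 ((LinearEquiv.map_eq_zero_iff g).1 h3)
    refine ⟨⟨⟨g, hg⟩, hst⟩, ?_⟩
    apply LinearEquiv.ext
    intro u
    exact Subtype.ext (ha u).symm

/-- The image of `KT` in the linear group on `Y i` is subnormal. -/
theorem SN_image (T : Finset (Fin m)) (i : Fin m) :
    SN (((KT S T).subgroupOf (St S i)).map (rS S i)) (img G (Y i)) := by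
  rw [← range_rS S i]
  refine ⟨?_, ?_⟩
  · rintro _ ⟨g, _, rfl⟩
    exact ⟨g, rfl⟩
  · have h1 : (KT S T).IsSubnormal := by
      refine Subgroup.IsSubnormal.step _ φ.ker (KT_le S T) (Subgroup.Normal.isSubnormal inferInstance) ⟨?_⟩
      rintro ⟨n, hn0⟩ hn ⟨g, hg⟩
      rw [Subgroup.mem_subgroupOf] at hn ⊢
      change n ∈ KT S T at hn
      change g * n * g⁻¹ ∈ KT S T
      rw [MonoidHom.mem_ker] at hg
      refine ⟨?_, fun j hj w hw => ?_⟩
      · rw [map_mul, map_mul, hn.1, hg, map_inv, hg]; simp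
      · have h2 : ((g⁻¹ : G) : V ≃ₗ[ZMod p] V) w ∈ Y j := by
          have := S.perm g⁻¹ j w hw
          rwa [map_inv, hg, inv_one, Equiv.Perm.one_apply] at this
        change (g : V ≃ₗ[ZMod p] V) ((n : V ≃ₗ[ZMod p] V) (((g⁻¹ : G) : V ≃ₗ[ZMod p] V) w)) = w
        rw [hn.2 j hj _ h2]
        exact (g : V ≃ₗ[ZMod p] V).apply_symm_apply w
    have h2 : ((KT S T).subgroupOf (St S i)).IsSubnormal := h1.subgroupOf
    have h3 := h2.map (rS S i).rangeRestrict_surjective
    have e : (((KT S T).subgroupOf (St S i)).map (rS S i)).subgroupOf (rS S i).range =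
        ((KT S T).subgroupOf (St S i)).map (rS S i).rangeRestrict := by
      ext a
      rw [Subgroup.mem_subgroupOf]
      constructor
      · rintro ⟨g, hg, hga⟩
        exact ⟨g, hg, Subtype.ext hga⟩
      · rintro ⟨g, hg, rfl⟩
        exact ⟨g, hg, rfl⟩
    rwa [e]

/-- The step for a nontrivial cycle. -/
theorem step_cycle [Finite G] (q c : ℕ) (hq : ∀ i, Nat.card (img G (Y i)) ≤ q) (s : Equiv.Perm (Fin m))
    (T : Finset (Fin m)) (i : Fin m) (T' : Finset (Fin m)) (hT' : ∀ j ∈ T', j ∉ T → s.SameCycle i j) (hTT' : T ⊆ T')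
    (hT : ∀ y, φ y = s → P (KT S T) y ≤ c * Nat.card (KT S T)) (y : G) (hy : φ y = s) :
    P (KT S T') y ≤ q * c * Nat.card (KT S T') := by
  have hz : ∀ z, y⁻¹ * z ∈ KT S T' → φ z = s := by
    intro z h
    have h1 := h.1
    rw [map_mul, map_inv, hy, inv_mul_eq_one] at h1
    exact h1.symm
  refine P_le_cent (KT S T') (KT S T) (KT_mono S hTT') y q c ?_ fun z h => hT z (hz z h)
  intro z h
  have hzs := hz z h
  refine cB_le (St S i) (rS S i) (KT S T') (KT S T) ((KT_le S _).trans (ker_le_St S i)) z q ?_ ?_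
  · rw [range_rS]
    exact hq i
  · intro b hb hbz hb1
    rw [rS_eq_one_iff] at hb1
    change ∀ w ∈ Y i, (b : V ≃ₗ[ZMod p] V) w = w at hb1
    refine ⟨hb.1, fun j hj w hw => ?_⟩
    by_cases hj' : j ∈ T'
    · obtain ⟨k, hk⟩ := hT' j hj' hj
      -- `z ^ k` maps `Y i` to `Y j`
      have e1 : φ (z ^ k) i = j := by rw [map_zpow, hzs]; exact hk
      have e2 : ((z ^ k)⁻¹ : G) = (z ^ k)⁻¹ := rfl
      have h2 : (((z ^ k)⁻¹ : G) : V ≃ₗ[ZMod p] V) w ∈ Y i := by
        have h3 := S.perm (z ^ k)⁻¹ j w hw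
        have e3 : φ (z ^ k)⁻¹ j = i := by
          rw [map_inv, Equiv.Perm.inv_eq_iff_eq, e1]
        rwa [e3] at h3
      have hc : Commute b (z ^ k) := (show Commute b z from hbz).zpow_right k
      have e4 : b * z ^ k * (z ^ k)⁻¹ = z ^ k * b * (z ^ k)⁻¹ := by rw [hc.eq]
      rw [mul_inv_cancel_right] at e4
      have e5 : (b : V ≃ₗ[ZMod p] V) w =
          ((z ^ k : G) : V ≃ₗ[ZMod p] V) ((b : V ≃ₗ[ZMod p] V) ((((z ^ k)⁻¹ : G) : V ≃ₗ[ZMod p] V) w)) := by
        conv_lhs => rw [e4]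
        rfl
      rw [e5, hb1 _ h2]
      exact ((z ^ k : G) : V ≃ₗ[ZMod p] V).apply_symm_apply w
    · exact hb.2 j hj' w hw

/-- The step for a fixed point. -/
theorem step_fix [Finite G] [∀ i, Finite (Y i ≃ₗ[ZMod p] Y i)] (q c : ℕ) (hq : ∀ i, ∀ N, SN N (img G (Y i)) → kc N ≤ q)
    (s : Equiv.Perm (Fin m)) (T : Finset (Fin m)) (i : Fin m) (hs : s i = i) (hiT : i ∉ T)
    (hT : ∀ y, φ y = s → P (KT S T) y ≤ c * Nat.card (KT S T)) (y : G) (hy : φ y = s) :
    P (KT S (insert i T)) y ≤ q * c * Nat.card (KT S (insert i T)) := by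
  have hBK : KT S (insert i T) ≤ St S i := (KT_le S _).trans (ker_le_St S i)
  have hDK : KT S T ≤ St S i := (KT_le S _).trans (ker_le_St S i)
  have hyi : y ∈ St S i := by change φ y i = i; rw [hy, hs]
  have hD : (KT S (insert i T)).subgroupOf (St S i) ⊓ (rS S i).ker = (KT S T).subgroupOf (St S i) := by
    ext g
    rw [Subgroup.mem_inf, MonoidHom.mem_ker, rS_eq_one_iff, Subgroup.mem_subgroupOf, Subgroup.mem_subgroupOf]
    constructor
    · rintro ⟨h1, h2⟩
      refine ⟨h1.1, fun j hj w hw => ?_⟩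
      by_cases hji : j = i
      · subst hji; exact h2 w hw
      · exact h1.2 j (by rw [Finset.mem_insert]; rintro (h | h) <;> contradiction) w hw
    · intro h1
      exact ⟨KT_mono S (Finset.subset_insert i T) h1, fun w hw => h1.2 i hiT w hw⟩
  have hDc : Nat.card ((KT S T).subgroupOf (St S i)) = Nat.card (KT S T) :=
    Nat.card_congr (Subgroup.subgroupOfEquivOfLe hDK).toEquiv
  have hBc : Nat.card ((KT S (insert i T)).subgroupOf (St S i)) = Nat.card (KT S (insert i T)) :=
    Nat.card_congr (Subgroup.subgroupOfEquivOfLe hBK).toEquiv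
  have h1 := P_le_map (rS S i) ((KT S (insert i T)).subgroupOf (St S i)) ⟨y, hyi⟩ c (by
    rw [hD]
    rintro ⟨z, hz⟩ hyz
    rw [P_subgroupOf _ _ hDK, hDc]
    apply hT
    rw [Subgroup.mem_subgroupOf] at hyz
    have h2 : φ (y⁻¹ * z) = 1 := (KT_le S _ hyz)
    rw [map_mul, map_inv, hy, inv_mul_eq_one] at h2
    exact h2.symm)
  rw [P_subgroupOf _ _ hBK, hD, hDc] at h1
  set N := ((KT S (insert i T)).subgroupOf (St S i)).map (rS S i) with hN
  have h2 : P N (rS S i ⟨y, hyi⟩) ≤ q * Nat.card N := by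
    refine (P_le_kc N _).trans (Nat.mul_le_mul_right _ ?_)
    exact hq i N (SN_image S _ i)
  have h3 : Nat.card N * Nat.card (KT S T) = Nat.card (KT S (insert i T)) := by
    rw [← hBc, ← hDc, ← hD]
    let f : ((KT S (insert i T)).subgroupOf (St S i)) →* (Y i ≃ₗ[ZMod p] Y i) :=
      (rS S i).comp ((KT S (insert i T)).subgroupOf (St S i)).subtype
    have e1 : f.range = N := by
      rw [hN]
      exact MonoidHom.range_comp _ _ |>.trans (by rw [Subgroup.range_subtype])
    have e2 : f.ker = ((KT S (insert i T)).subgroupOf (St S i) ⊓ (rS S i).ker).subgroupOf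
        ((KT S (insert i T)).subgroupOf (St S i)) := by
      ext g
      rw [MonoidHom.mem_ker, Subgroup.mem_subgroupOf, Subgroup.mem_inf, MonoidHom.mem_ker]
      exact ⟨fun h => ⟨g.2, h⟩, fun h => h.2⟩
    have e3 : Nat.card f.ker = Nat.card ((KT S (insert i T)).subgroupOf (St S i) ⊓ (rS S i).ker : Subgroup _) := by
      rw [e2]
      exact Nat.card_congr (Subgroup.subgroupOfEquivOfLe inf_le_left).toEquiv
    rw [← e3, ← e1, mul_comm, ← Subgroup.index_ker]
    exact Subgroup.card_mul_index f.ker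
  calc P (KT S (insert i T)) y ≤ c * Nat.card (KT S T) * P N (rS S i ⟨y, hyi⟩) := h1
    _ ≤ c * Nat.card (KT S T) * (q * Nat.card N) := Nat.mul_le_mul_left _ h2
    _ = q * c * (Nat.card N * Nat.card (KT S T)) := by ring
    _ = q * c * Nat.card (KT S (insert i T)) := by rw [h3]

include S in
/-- The count. -/
theorem sys_count [Finite G] [∀ i, Finite (Y i ≃ₗ[ZMod p] Y i)] (h96 : ∀ i, Nat.card (img G (Y i)) ≤ 96)
    (h16 : ∀ i, ∀ N, SN N (img G (Y i)) → kc N ≤ 16) (x : G) :
    P φ.ker x ≤ wt (φ x) * Nat.card φ.ker := by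
  classical
  set s := φ x with hs
  have hC : ∀ C : Finset (Equiv.Perm (Fin m)), C ⊆ s.cycleFactorsFinset → ∀ y, φ y = s →
      P (KT S (C.biUnion Equiv.Perm.support)) y ≤ 96 ^ C.card * Nat.card (KT S (C.biUnion Equiv.Perm.support)) := by
    intro C
    induction C using Finset.induction_on with
    | empty =>
      intro _ y _
      rw [Finset.biUnion_empty, KT_empty, P_bot, Finset.card_empty, pow_zero, one_mul]
      exact Nat.card_pos
    | insert c C hcC ih =>
      intro hC y hy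
      have hc : c ∈ s.cycleFactorsFinset := hC (Finset.mem_insert_self c C)
      have hC' : C ⊆ s.cycleFactorsFinset := fun a ha => hC (Finset.mem_insert_of_mem ha)
      have hcyc : c.IsCycle := (Equiv.Perm.mem_cycleFactorsFinset_iff.1 hc).1
      obtain ⟨i, hi⟩ : c.support.Nonempty := hcyc.nonempty_support
      have hci : c = s.cycleOf i := Equiv.Perm.cycle_is_cycleOf hi hc
      rw [Finset.card_insert_of_notMem hcC, pow_succ, mul_comm (96 ^ C.card)]
      refine step_cycle S 96 (96 ^ C.card) h96 s (C.biUnion Equiv.Perm.support) i _ ?_ ?_ (ih hC') y hy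
      · intro j hj hjT
        rw [Finset.biUnion_insert, Finset.mem_union] at hj
        rcases hj with hj | hj
        · rw [hci, Equiv.Perm.mem_support_cycleOf_iff] at hj
          exact hj.1
        · exact absurd hj hjT
      · rw [Finset.biUnion_insert]
        exact Finset.subset_union_right
  set T0 := s.cycleFactorsFinset.biUnion Equiv.Perm.support with hT0
  have hT0s : T0 = s.support := by
    ext j
    rw [hT0, Finset.mem_biUnion, Equiv.Perm.mem_support_iff_mem_support_of_mem_cycleFactorsFinset]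
  have hA : ∀ A : Finset (Fin m), A ⊆ Finset.univ \ s.support → ∀ y, φ y = s →
      P (KT S (A ∪ T0)) y ≤ 16 ^ A.card * 96 ^ s.cycleFactorsFinset.card * Nat.card (KT S (A ∪ T0)) := by
    intro A
    induction A using Finset.induction_on with
    | empty =>
      intro _ y hy
      rw [Finset.empty_union, Finset.card_empty, pow_zero, one_mul]
      exact hC _ (Finset.Subset.refl _) y hy
    | insert i A hiA ih =>
      intro hA y hy
      have hi := hA (Finset.mem_insert_self i A)
      have hA' : A ⊆ Finset.univ \ s.support := fun a ha => hA (Finset.mem_insert_of_mem ha)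
      have hi' : i ∉ s.support := (Finset.mem_sdiff.1 hi).2
      have hsi : s i = i := Equiv.Perm.notMem_support.1 hi'
      have hiT : i ∉ A ∪ T0 := by
        rw [Finset.mem_union, hT0s]
        rintro (h | h) <;> contradiction
      rw [Finset.card_insert_of_notMem hiA, pow_succ, mul_comm (16 ^ A.card), Finset.insert_union, mul_assoc 16]
      exact step_fix S 16 _ h16 s (A ∪ T0) i hsi hiT (ih hA') y hy
  have h1 := hA (Finset.univ \ s.support) (Finset.Subset.refl _) x hs.symm
  have h2 : Finset.univ \ s.support ∪ T0 = Finset.univ := by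
    rw [hT0s, Finset.sdiff_union_of_subset (Finset.subset_univ _)]
  rw [h2, KT_univ] at h1
  have h3 : (Finset.univ \ s.support).card = m - s.support.card := by
    rw [Finset.card_sdiff_of_subset (Finset.subset_univ _), Finset.card_univ, Fintype.card_fin]
  have h4 : Multiset.card s.cycleType = s.cycleFactorsFinset.card := by
    rw [Equiv.Perm.cycleType_def, Multiset.card_map]
    rfl
  unfold wt
  rw [h4, ← h3]
  convert h1 using 3

end Sys

section Main

/-- The cardinality of a direct sum of subspaces. -/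
theorem card_of_indep {m : ℕ} (Y : Fin m → Submodule (ZMod p) V) (h1 : iSupIndep Y) (h2 : ⨆ i, Y i = ⊤) :
    Nat.card V = ∏ i, Nat.card (Y i) := by
  classical
  have h3 := DirectSum.isInternal_submodule_of_iSupIndep_of_iSup_eq_top h1 h2
  rw [← Nat.card_pi, ← Nat.card_congr (DirectSum.linearEquivFunOnFintype (ZMod p) (Fin m) (fun i => Y i)).toEquiv]
  exact (Nat.card_congr (Equiv.ofBijective _ h3)).symm

/-- The translates of a block of an irreducible group form a system. -/
theorem exists_sys [Finite V] (G : Subgroup (V ≃ₗ[ZMod p] V)) (hI : Irr G) (W : Submodule (ZMod p) V)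
    (hW : Block G W) :
    ∃ (m : ℕ) (Y : Fin m → Submodule (ZMod p) V) (φ : G →* Equiv.Perm (Fin m)), 1 ≤ m ∧ Sys G Y φ ∧ iSupIndep Y ∧
      ∀ i, ∃ g ∈ G, Y i = W.map (g : V →ₗ[ZMod p] V) := by
  classical
  have hfin : Finite (Submodule (ZMod p) V) := Finite.of_injective (fun N => (N : Set V)) SetLike.coe_injective
  let act : G → trans G W → trans G W := fun g Z =>
    ⟨Z.1.map ((g : V ≃ₗ[ZMod p] V) : V →ₗ[ZMod p] V), by
      obtain ⟨h, hh, hZ⟩ := Z.2
      refine ⟨g * h, G.mul_mem g.2 hh, ?_⟩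
      rw [hZ, ← Submodule.map_comp]
      rfl⟩
  let _ : MulAction G (trans G W) :=
    { smul := act
      one_smul := fun Z => Subtype.ext (Submodule.map_id Z.1)
      mul_smul := fun g h Z => Subtype.ext (Submodule.map_comp _ _ _) }
  have hsm : ∀ (g : G) (Z : trans G W), ((g • Z : trans G W) : Submodule (ZMod p) V) =
      Z.1.map ((g : V ≃ₗ[ZMod p] V) : V →ₗ[ZMod p] V) := fun g Z => rfl
  obtain ⟨m, ⟨e⟩⟩ := Finite.exists_equiv_fin (trans G W)
  have hWt : W ∈ trans G W := ⟨1, G.one_mem, (Submodule.map_id W).symm⟩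
  refine ⟨m, fun i => (e.symm i).1, (e.permCongrHom.toMonoidHom).comp (MulAction.toPermHom G (trans G W)), ?_, ?_, ?_, ?_⟩
  · have := (e ⟨W, hWt⟩).pos
    omega
  · constructor
    · intro g i w hw
      change _ ∈ (e.symm (e (g • e.symm i))).1
      rw [Equiv.symm_apply_apply, hsm]
      exact Submodule.mem_map_of_mem hw
    · have h1 := hI (⨆ i, (e.symm i).1) (by
        intro g hg u hu
        have h2 : (⨆ i, (e.symm i).1) ≤ (⨆ i, (e.symm i).1).comap (g : V →ₗ[ZMod p] V) := by
          refine iSup_le fun i => ?_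
          intro w hw
          rw [Submodule.mem_comap]
          have h3 : (e.symm (e ((⟨g, hg⟩ : G) • e.symm i))).1 ≤ ⨆ i, (e.symm i).1 :=
            le_iSup (fun i => (e.symm i).1) (e ((⟨g, hg⟩ : G) • e.symm i))
          apply h3
          rw [Equiv.symm_apply_apply, hsm]
          exact Submodule.mem_map_of_mem hw
        exact h2 hu)
      rcases h1 with h1 | h1
      · exfalso
        have h2 : (e.symm (e ⟨W, hWt⟩)).1 ≤ ⨆ i, (e.symm i).1 := le_iSup (fun i => (e.symm i).1) _
        rw [Equiv.symm_apply_apply, h1, le_bot_iff] at h2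
        exact hW.1 h2
      · exact h1
    · intro i j hij
      have h1 := hW.2.pairwiseDisjoint (e.symm i).2 (e.symm j).2
        (fun h => hij (e.symm.injective (Subtype.ext h)))
      exact h1
    · intro i h
      obtain ⟨g, hg, hgY⟩ := (e.symm i).2
      rw [h] at hgY
      refine hW.1 ((Submodule.eq_bot_iff _).2 fun w hw => ?_)
      have h1 : g w ∈ W.map (g : V →ₗ[ZMod p] V) := Submodule.mem_map_of_mem hw
      rw [← hgY, Submodule.mem_bot] at h1
      exact (LinearEquiv.map_eq_zero_iff g).1 h1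
  · exact ((sSupIndep_iff _).1 hW.2).comp e.symm.injective
  · intro i
    exact (e.symm i).2

/-- T6: the exceptional case. -/
theorem exc_bd [Fact p.Prime] [Finite V] [Nontrivial V] (PB : PermB) (h5 : p = 5)
    (G : Subgroup (V ≃ₗ[ZMod p] V)) (hG : ¬ p ∣ Nat.card G) (hI : Irr G)
    (W : Submodule (ZMod p) V) (hW : Block G W) (h : Exc (img G W)) : kc G < Nat.card V - 1 := by
  classical
  subst h5
  obtain ⟨m, Y, φ, hm, S, hind, hY⟩ := exists_sys G hI W hW
  have hfinV : Finite (V ≃ₗ[ZMod 5] V) := finite_linearEquiv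
  have hfinY : ∀ i, Finite (Y i ≃ₗ[ZMod 5] Y i) := fun i => finite_linearEquiv
  have hE : ∀ i, Exc (img G (Y i)) := by
    intro i
    obtain ⟨g, hg, hgY⟩ := hY i
    rw [hgY]
    exact exc_map G W g hg h
  have hcard : Nat.card V = 25 ^ m := by
    rw [card_of_indep Y hind S.top, Finset.prod_congr rfl fun i _ => (hE i).1, Finset.prod_const, Finset.card_univ,
      Fintype.card_fin]
  have := Fintype.ofFinite (ConjClasses φ.range)
  have hR : ¬ 5 ∣ Nat.card φ.range := fun hd => hG (hd.trans (Subgroup.card_range_dvd _))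
  have hx : ∀ c : ConjClasses φ.range, ∃ x : G, ConjClasses.mk (φ.rangeRestrict x) = c := by
    intro c
    obtain ⟨⟨_, ⟨x, rfl⟩⟩, rfl⟩ := ConjClasses.mk_surjective c
    exact ⟨x, rfl⟩
  choose x hx using hx
  have h1 := kc_le_sum φ x hx (fun c => wt (φ (x c))) fun c =>
    sys_count S (fun i => (hE i).2.1) (fun i => (hE i).2.2) (x c)
  have h2 := PB m hm φ.range hR (fun c => φ.rangeRestrict (x c)) hx
  rw [finsum_eq_sum_of_fintype] at h2
  have h3 : kc G ≤ 16 * 25 ^ (m - 1) := h1.trans h2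
  obtain ⟨n, rfl⟩ : ∃ n, m = n + 1 := ⟨m - 1, by omega⟩
  rw [hcard, pow_succ]
  rw [Nat.add_sub_cancel] at h3
  have h4 : 1 ≤ 25 ^ n := Nat.one_le_pow _ _ (by norm_num)
  omega

end Main

end Cfsg.Agent.H388.KGL
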